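import Groth.Agent.L17.FlatBase.DegZero
import Groth.Agent.L03.ShStab.BC
import Groth.Agent.L18.GlobGen
import Groth.Agent.L29.LocFree

/-!
Global generation and faithfully flat extension of the base ring.
-/

set_option autoImplicit false
set_option linter.style.haveILetI false
set_option backward.isDefEq.respectTransparency false

universe u

open CategoryTheory CategoryTheory.Limits AlgebraicGeometry TopologicalSpace Opposite
open scoped TensorProduct

noncomputable section

namespace Groth.L22.GG.FlatDescent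

open Groth.L18.Frame (rs pull rs_self)

variable {X : Scheme.{u}}

theorem gg_pullback {Y : Scheme.{u}} (f : X ⟶ Y) {M : Y.Modules} (h : Curv2.IsGloballyGenerated M) :
    Curv2.IsGloballyGenerated ((Scheme.Modules.pullback f).obj M) := by
  obtain ⟨ι, p, hp⟩ := h
  let e : (Scheme.Modules.pullback f).obj (SheafOfModules.free ι : Y.Modules) ≅ (SheafOfModules.free ι : X.Modules) :=
    PreservesCoproduct.iso (Scheme.Modules.pullback f) _ ≪≫ Sigma.mapIso fun _ => Groth.L29.LocFree.pullbackUnitIso f
  haveI : Epi ((Scheme.Modules.pullback f).map p) :=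
    ((Scheme.Modules.pullback f).preservesEpimorphisms_of_adjunction (Scheme.Modules.pullbackPushforwardAdjunction f) |>.preserves p)
  exact ⟨ι, e.inv ≫ (Scheme.Modules.pullback f).map p, epi_comp _ _⟩

/-- A map killing the global sections of a globally generated module is zero. -/
theorem eq_zero_of_kills {F G : X.Modules} (hF : Curv2.IsGloballyGenerated F) (g : F ⟶ G)
    (h : ∀ t : Γ(F, ⊤), g.app ⊤ t = 0) : g = 0 := by
  obtain ⟨ι, p, hp⟩ := hF
  refine (cancel_epi p).1 ?_
  rw [comp_zero]
  apply (SheafOfModules.freeHomEquiv G).injective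
  funext i
  refine PresheafOfModules.sections_ext _ _ fun U => ?_
  have key : ((SheafOfModules.freeHomEquiv G) (p ≫ g) i).1 (op ⊤) = 0 := by
    rw [show (p ≫ g) = (SheafOfModules.freeHomEquiv G).symm (fun t => SheafOfModules.sectionsMap g
      (SheafOfModules.freeHomEquiv F p t)) by rw [← SheafOfModules.freeHomEquiv_symm_comp, Equiv.symm_apply_apply],
      Equiv.apply_symm_apply]
    exact h _
  rw [← ((SheafOfModules.freeHomEquiv G) (p ≫ g) i).property (homOfLE (le_top : U.unop ≤ ⊤)).op,
    ← ((SheafOfModules.freeHomEquiv G) 0 i).property (homOfLE (le_top : U.unop ≤ ⊤)).op]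
  refine congrArg _ (key.trans ?_)
  rfl

theorem eq_zero_of_pullback {Y : Scheme.{u}} (f : Y ⟶ X) [Flat f] [Surjective f] {A B : X.Modules} (g : A ⟶ B)
    (h : (Scheme.Modules.pullback f).map g = 0) : g = 0 := by
  haveI := Groth.L03.ShStab.BC.mono_pullback f (Abelian.image.ι g)
  haveI : Epi ((Scheme.Modules.pullback f).map (Abelian.factorThruImage g)) :=
    ((Scheme.Modules.pullback f).preservesEpimorphisms_of_adjunction (Scheme.Modules.pullbackPushforwardAdjunction f) |>.preserves _)
  have h1 : (Scheme.Modules.pullback f).map (Abelian.factorThruImage g) = 0 := by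
    rw [← cancel_mono ((Scheme.Modules.pullback f).map (Abelian.image.ι g)), ← Functor.map_comp, Abelian.image.fac, h,
      zero_comp]
  have hz := Groth.L03.ShStab.BC.isZero_of_pullback f (IsZero.of_epi_eq_zero _ h1)
  rw [← Abelian.image.fac g, hz.eq_of_src (Abelian.image.ι g) 0, comp_zero]

variable {A A' : Type u} [CommRing A] [CommRing A'] [Algebra A A']
variable (f : X ⟶ Spec (CommRingCat.of A)) {X' : Scheme.{u}} (g' : X' ⟶ X) (f' : X' ⟶ Spec (CommRingCat.of A'))
  (F : X.Modules)

theorem pullback_kills (sq : IsPullback g' f' f (Spec.map (CommRingCat.ofHom (algebraMap A A'))))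
    [Module.Flat A A'] [QuasiCompact f] [QuasiSeparated f] [Coh.IsQCoh F] {G : X.Modules} (g : F ⟶ G)
    (hg : ∀ t : Γ(F, ⊤), g.app ⊤ t = 0) (t : Γ((Scheme.Modules.pullback g').obj F, ⊤)) :
    ((Scheme.Modules.pullback g').map g).app ⊤ t = 0 := by
  let p := Spec.map (CommRingCat.ofHom (algebraMap A A'))
  let S := Spec (CommRingCat.of A)
  let S' := Spec (CommRingCat.of A')
  haveI : CompactSpace X := QuasiCompact.compactSpace_of_compactSpace f
  haveI : QuasiSeparatedSpace X := quasiSeparatedSpace_of_quasiSeparated f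
  haveI : Flat p := by
    rw [HasRingHomProperty.Spec_iff (P := @Flat)]
    exact RingHom.flat_algebraMap_iff.2 inferInstance
  have eV : (⊤ : S'.Opens) ≤ p ⁻¹ᵁ (⊤ : S.Opens) := le_rfl
  letI alg : Algebra Γ(S, ⊤) Γ(S', ⊤) := (p.appLE ⊤ ⊤ eV).hom.toAlgebra
  have hflat : Module.Flat Γ(S, ⊤) Γ(S', ⊤) := p.flat_appLE (isAffineOpen_top S) (isAffineOpen_top S') eV
  have hgood : Groth.L17.DegZero.Good f p g' f' sq.w F eV alg rfl (⊤ : X.Opens) :=
    Groth.L17.SchemeTheta.qc_induction (fun U => Groth.L17.DegZero.Good f p g' f' sq.w F eV alg rfl U)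
      (fun W hW => Groth.L17.DegZero.good_affine f p g' f' sq.w F eV alg rfl sq (isAffineOpen_top S) (isAffineOpen_top S') hW)
      (fun U₁ U₂ a b c => Groth.L17.DegZero.good_sup f p g' f' sq.w F eV alg rfl hflat a b c) isCompact_univ
  obtain ⟨z, hz⟩ := (hgood le_top).2 (rs _ le_top t)
  have hW : g' ⁻¹ᵁ (⊤ : X.Opens) ⊓ f' ⁻¹ᵁ (⊤ : S'.Opens) = ⊤ := by simp
  have key : ∀ z, ((Scheme.Modules.pullback g').map g).app (g' ⁻¹ᵁ (⊤ : X.Opens) ⊓ f' ⁻¹ᵁ (⊤ : S'.Opens))
      (Groth.L17.DegZero.β f p g' f' sq.w F eV alg rfl le_top _ inf_le_left inf_le_right z) = 0 := fun z => by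
    induction z using TensorProduct.induction_on with
    | zero => exact (congrArg _ (map_zero _)).trans (map_zero _)
    | add x y hx hy => simp only [map_add, hx, hy, add_zero]
    | tmul c m =>
      rw [Groth.L17.DegZero.β_tmul]
      refine (((Scheme.Modules.pullback g').map g).app_smul _ _).trans ?_
      rw [Groth.L17.DegZero.app_rs]
      have hn : ((Scheme.Modules.pullback g').map g).app (g' ⁻¹ᵁ ⊤) (pull g' F ⊤ m) = pull g' G ⊤ (g.app ⊤ m) :=
        (congr($(congrArg (fun k => Scheme.Modules.Hom.app k ⊤)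
          ((Scheme.Modules.pullbackPushforwardAdjunction g').unit.naturality g)) m)).symm
      rw [hn, hg]
      have h0 : pull g' G (⊤ : X.Opens) 0 = 0 :=
        map_zero (((Scheme.Modules.pullbackPushforwardAdjunction g').unit.app G).app ⊤).hom
      rw [h0]
      exact smul_eq_zero_of_right _ (map_zero _)
  have h1 := key z
  rw [hz, Groth.L17.DegZero.app_rs] at h1
  have h2 := congrArg (rs ((Scheme.Modules.pullback g').obj G) hW.ge) h1
  rw [Groth.L18.Frame.rs_rs, rs_self] at h2
  exact h2.trans (map_zero _)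

theorem iff_baseChange [Module.FaithfullyFlat A A'] [QuasiCompact f] [QuasiSeparated f] (hF : Coh.IsQCoh F) :
    Curv2.IsGloballyGenerated F ↔ Curv2.IsGloballyGenerated
      ((Scheme.Modules.pullback (pullback.fst f (Spec.map (CommRingCat.ofHom (algebraMap A A'))))).obj F) := by
  refine ⟨gg_pullback _, fun h => Groth.L18.Ample.isGloballyGenerated_of_kills F fun G g hg => ?_⟩
  haveI := hF
  haveI : Flat (Spec.map (CommRingCat.ofHom (algebraMap A A'))) := by
    rw [HasRingHomProperty.Spec_iff (P := @Flat)]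
    exact RingHom.flat_algebraMap_iff.2 inferInstance
  haveI : Surjective (Spec.map (CommRingCat.ofHom (algebraMap A A'))) :=
    ⟨PrimeSpectrum.comap_surjective_of_faithfullyFlat (A := A) (B := A')⟩
  exact eq_zero_of_pullback (pullback.fst f (Spec.map (CommRingCat.ofHom (algebraMap A A')))) g
    (eq_zero_of_kills h _ fun t => pullback_kills f _ _ F (IsPullback.of_hasPullback _ _) g hg t)

end Groth.L22.GG.FlatDescent
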