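import Groth.Agent.L22.GG.FlatDescent
import Groth.Agent.L02.Canon.DescInvertible
import Groth.Agent.L21.Extend.Semilocal
import Groth.Agent.L18.Ample
import Groth.Agent.S0585
import Mathlib.RingTheory.LocalRing.Module
import Mathlib.RingTheory.RingHom.FaithfullyFlat
import Mathlib.RingTheory.Finiteness.Descent

/-!
A line bundle trivialised by a faithfully flat extension of the base ring, semi-local case.
-/

set_option autoImplicit false
set_option linter.style.haveILetI false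
set_option backward.isDefEq.respectTransparency false

universe u

open CategoryTheory CategoryTheory.Limits AlgebraicGeometry TopologicalSpace Opposite
open scoped TensorProduct

noncomputable section

namespace Groth.L22.GG.SemilocalPic

open Groth.L18.Frame (rs pull rs_self)

theorem finrank_residue_eq_one {R S M : Type u} [CommRing R] [CommRing S] [Algebra R S]
    [Module.FaithfullyFlat R S] [AddCommGroup M] [Module R M] (e : S ⊗[R] M ≃ₗ[S] S) (P : MaximalSpectrum R) :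
    Module.finrank (R ⧸ P.1) ((R ⧸ P.1) ⊗[R] M) = 1 := by
  haveI := P.2
  obtain ⟨Q, hQ⟩ := PrimeSpectrum.comap_surjective_of_faithfullyFlat (B := S) (⟨P.1, P.2.isPrime⟩ : PrimeSpectrum R)
  have hQ' : Q.asIdeal.comap (algebraMap R S) = P.1 := congrArg PrimeSpectrum.asIdeal hQ
  haveI := Q.2
  haveI : Q.asIdeal.LiesOver P.1 := ⟨hQ'.symm⟩
  letI : Field (R ⧸ P.1) := Ideal.Quotient.field _
  haveI : IsScalarTower R (R ⧸ P.1) (S ⧸ Q.asIdeal) := inferInstance
  let e₁ : (S ⧸ Q.asIdeal) ⊗[R ⧸ P.1] ((R ⧸ P.1) ⊗[R] M) ≃ₗ[S ⧸ Q.asIdeal] (S ⧸ Q.asIdeal) ⊗[R] M :=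
    TensorProduct.AlgebraTensorModule.cancelBaseChange R (R ⧸ P.1) (S ⧸ Q.asIdeal) (S ⧸ Q.asIdeal) M
  let e₂ : (S ⧸ Q.asIdeal) ⊗[R] M ≃ₗ[S ⧸ Q.asIdeal] (S ⧸ Q.asIdeal) :=
    (TensorProduct.AlgebraTensorModule.cancelBaseChange R S (S ⧸ Q.asIdeal) (S ⧸ Q.asIdeal) M).symm ≪≫ₗ
      TensorProduct.AlgebraTensorModule.congr (LinearEquiv.refl (S ⧸ Q.asIdeal) (S ⧸ Q.asIdeal)) e ≪≫ₗ
      TensorProduct.AlgebraTensorModule.rid S (S ⧸ Q.asIdeal) (S ⧸ Q.asIdeal)
  have h := (e₁ ≪≫ₗ e₂).finrank_eq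
  rw [Module.finrank_baseChange, Module.finrank_self] at h
  exact h

/-- A module over a semi-local ring which becomes free of rank one after a faithfully flat extension. -/
theorem exists_generator {R S M : Type u} [CommRing R] [Finite (MaximalSpectrum R)] [CommRing S] [Algebra R S]
    [Module.FaithfullyFlat R S] [AddCommGroup M] [Module R M] (e : S ⊗[R] M ≃ₗ[S] S) :
    ∃ s : M, ∀ t : M, ∃ r : R, r • s = t := by
  haveI : Module.Finite S (S ⊗[R] M) := Module.Finite.equiv e.symm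
  haveI : Module.Finite R M := Module.Finite.of_finite_tensorProduct_of_faithfullyFlat S
  haveI : Module.Projective S (S ⊗[R] M) := Module.Projective.of_equiv e.symm
  haveI : Module.Projective R M := Groth.Agent.S0585.result R S M
  obtain ⟨b⟩ := Module.nonempty_basis_of_flat_of_finrank_eq R M 1 (finrank_residue_eq_one e)
  exact ⟨b 0, fun t => ⟨b.repr t 0, (Eq.trans (Fin.sum_univ_one (fun i => b.repr t i • b i)).symm (b.sum_repr t))⟩⟩

variable {X : Scheme.{u}} {A A' : Type u} [CommRing A] [CommRing A'] [Algebra A A']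

theorem exists_generator_sections (f : X ⟶ Spec (CommRingCat.of A)) {X' : Scheme.{u}} (g' : X' ⟶ X)
    (f' : X' ⟶ Spec (CommRingCat.of A')) (sq : IsPullback g' f' f (Spec.map (CommRingCat.ofHom (algebraMap A A'))))
    [Module.FaithfullyFlat A A'] [CompactSpace X] [QuasiSeparatedSpace X] (hsl : Finite (MaximalSpectrum Γ(X, ⊤)))
    (L : X.Modules) [Coh.IsQCoh L] (φ : (Scheme.Modules.pullback g').obj L ≅ Coh.structureModule X') :
    ∃ s : Γ(L, ⊤), ∀ t : Γ(L, ⊤), ∃ r : Γ(X, ⊤), r • s = t := by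
  let p := Spec.map (CommRingCat.ofHom (algebraMap A A'))
  let T := Spec (CommRingCat.of A)
  let T' := Spec (CommRingCat.of A')
  have hff : (algebraMap A A').FaithfullyFlat := RingHom.faithfullyFlat_algebraMap_iff.2 inferInstance
  haveI : Flat p := by
    rw [HasRingHomProperty.Spec_iff (P := @Flat)]
    exact RingHom.flat_algebraMap_iff.2 inferInstance
  have eV : (⊤ : T'.Opens) ≤ p ⁻¹ᵁ (⊤ : T.Opens) := le_rfl
  letI alg : Algebra Γ(T, ⊤) Γ(T', ⊤) := (p.appLE ⊤ ⊤ eV).hom.toAlgebra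
  have hflat : Module.Flat Γ(T, ⊤) Γ(T', ⊤) := p.flat_appLE (isAffineOpen_top T) (isAffineOpen_top T') eV
  have hgood : Groth.L17.DegZero.Good f p g' f' sq.w L eV alg rfl (⊤ : X.Opens) :=
    Groth.L17.SchemeTheta.qc_induction (fun U => Groth.L17.DegZero.Good f p g' f' sq.w L eV alg rfl U)
      (fun W hW => Groth.L17.DegZero.good_affine f p g' f' sq.w L eV alg rfl sq (isAffineOpen_top T) (isAffineOpen_top T') hW)
      (fun U₁ U₂ a b c => Groth.L17.DegZero.good_sup f p g' f' sq.w L eV alg rfl hflat a b c) isCompact_univ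
  set U := g' ⁻¹ᵁ (⊤ : X.Opens) ⊓ f' ⁻¹ᵁ (⊤ : T'.Opens) with hU
  have eX : (⊤ : X.Opens) ≤ f ⁻¹ᵁ (⊤ : T.Opens) := le_rfl
  have eU : U ≤ g' ⁻¹ᵁ (⊤ : X.Opens) := inf_le_left
  have eU' : U ≤ f' ⁻¹ᵁ (⊤ : T'.Opens) := inf_le_right
  have hb := hgood eX
  have hpo : IsPushout (f.appLE ⊤ ⊤ eX) (p.appLE ⊤ ⊤ eV) (g'.appLE ⊤ U eU) (f'.appLE ⊤ U eU') :=
    (isIso_pushoutSection_iff sq eV eX rfl).1
      (isIso_pushoutSection_of_isQuasiSeparated_of_flat_right sq eV eX rfl
        (isAffineOpen_top T) (isAffineOpen_top T') isCompact_univ isQuasiSeparated_univ)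
  set P := (Scheme.Modules.pullback g').obj L with hP
  letI : Algebra Γ(T, ⊤) Γ(X, ⊤) := (f.appLE ⊤ ⊤ eX).hom.toAlgebra
  letI : Algebra Γ(X, ⊤) Γ(X', U) := (g'.appLE ⊤ U eU).hom.toAlgebra
  letI : Algebra Γ(T', ⊤) Γ(X', U) := (f'.appLE ⊤ U eU').hom.toAlgebra
  letI : Algebra Γ(T, ⊤) Γ(X', U) := ((g'.appLE ⊤ U eU).hom.comp (f.appLE ⊤ ⊤ eX).hom).toAlgebra
  haveI : IsScalarTower Γ(T, ⊤) Γ(X, ⊤) Γ(X', U) := IsScalarTower.of_algebraMap_eq' rfl
  haveI : IsScalarTower Γ(T, ⊤) Γ(T', ⊤) Γ(X', U) :=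
    IsScalarTower.of_algebraMap_eq fun a => Groth.L17.DegZero.appLE_compat f p g' f' sq.w eV eX eU eU' a
  have hpo' : IsPushout (CommRingCat.ofHom (algebraMap Γ(T, ⊤) Γ(X, ⊤)))
      (CommRingCat.ofHom (algebraMap Γ(T, ⊤) Γ(T', ⊤)))
      (CommRingCat.ofHom (algebraMap Γ(X, ⊤) Γ(X', U))) (CommRingCat.ofHom (algebraMap Γ(T', ⊤) Γ(X', U))) := hpo
  haveI : Algebra.IsPushout Γ(T, ⊤) Γ(X, ⊤) Γ(T', ⊤) Γ(X', U) := CommRingCat.isPushout_iff_isPushout.mp hpo'
  haveI : Algebra.IsPushout Γ(T, ⊤) Γ(T', ⊤) Γ(X, ⊤) Γ(X', U) := Algebra.IsPushout.symm inferInstance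
  have hff₀ : (algebraMap Γ(T, ⊤) Γ(T', ⊤)).FaithfullyFlat := by
    show (p.appLE ⊤ ⊤ eV).hom.FaithfullyFlat
    rw [show p.appLE ⊤ ⊤ eV = p.appTop from (Scheme.Hom.app_eq_appLE p).symm,
      show p.appTop = (Scheme.ΓSpecIso (CommRingCat.of A)).hom ≫ CommRingCat.ofHom (algebraMap A A') ≫
        (Scheme.ΓSpecIso (CommRingCat.of A')).inv by
      rw [← Category.assoc, Iso.eq_comp_inv]
      exact Scheme.ΓSpecIso_naturality _,
      CommRingCat.hom_comp, RingHom.FaithfullyFlat.respectsIso.cancel_left_isIso, CommRingCat.hom_comp,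
      RingHom.FaithfullyFlat.respectsIso.cancel_right_isIso]
    exact hff
  haveI : Module.FaithfullyFlat Γ(X, ⊤) Γ(X', U) :=
    RingHom.faithfullyFlat_algebraMap_iff.1
      (RingHom.FaithfullyFlat.isStableUnderBaseChange Γ(T, ⊤) Γ(T', ⊤) Γ(X, ⊤) Γ(X', U) hff₀)
  letI : Module Γ(T, ⊤) Γ(L, ⊤) := Module.compHom Γ(L, ⊤) (f.appLE ⊤ ⊤ eX).hom
  haveI : IsScalarTower Γ(T, ⊤) Γ(X, ⊤) Γ(L, ⊤) := IsScalarTower.of_algebraMap_smul fun _ _ => rfl
  letI : Module Γ(X, ⊤) Γ(P, U) := Module.compHom Γ(P, U) (g'.appLE ⊤ U eU).hom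
  haveI : IsScalarTower Γ(X, ⊤) Γ(X', U) Γ(P, U) := IsScalarTower.of_algebraMap_smul fun _ _ => rfl
  let pl : Γ(L, ⊤) →ₗ[Γ(X, ⊤)] Γ(P, U) :=
    { toFun := fun m => rs P eU (pull g' L ⊤ m)
      map_add' := fun a b => (congrArg (rs P eU) (map_add (((Scheme.Modules.pullbackPushforwardAdjunction g').unit.app L).app ⊤).hom a b)).trans
        (map_add (P.presheaf.map (homOfLE eU).op).hom _ _)
      map_smul' := fun a m => by
        show rs P eU (pull g' L ⊤ (a • m)) = g'.appLE ⊤ U eU a • rs P eU (pull g' L ⊤ m)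
        rw [Groth.L18.Frame.pull_smul, Groth.L18.Frame.rs_smul]
        rfl }
  let h := pl.liftBaseChange Γ(X', U)
  let E₀ := (Algebra.IsPushout.cancelBaseChange Γ(T, ⊤) Γ(T', ⊤) Γ(X, ⊤) Γ(X', U) Γ(L, ⊤)).symm
  have key : ∀ z : Γ(T', ⊤) ⊗[Γ(T, ⊤)] Γ(L, ⊤),
      Groth.L17.DegZero.β f p g' f' sq.w L eV alg rfl eX U eU eU' z = h (E₀ z) := fun z => by
    induction z using TensorProduct.induction_on with
    | zero => exact (map_zero _).trans (((congrArg h (map_zero E₀)).trans (map_zero h))).symm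
    | add x y hx hy => exact (map_add _ x y).trans ((congrArg₂ (· + ·) hx hy).trans
        ((map_add h _ _).symm.trans (congrArg h (map_add E₀ x y).symm)))
    | tmul c m =>
      show _ = h (E₀ (c ⊗ₜ m))
      rw [Algebra.IsPushout.cancelBaseChange_symm_tmul, LinearMap.liftBaseChange_tmul]
      rfl
  have hbij : Function.Bijective h := by
    have h1 : Function.Bijective (h ∘ E₀) := by
      rw [show (h ∘ E₀ : _ → _) = Groth.L17.DegZero.β f p g' f' sq.w L eV alg rfl eX U eU eU' from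
        funext fun z => (key z).symm]
      exact hb
    exact (Function.Bijective.of_comp_iff _ E₀.bijective).1 h1
  let e' : Γ(P, U) ≃ₗ[Γ(X', U)] Γ(X', U) :=
    { toFun := fun z => φ.hom.app U z
      invFun := fun z => φ.inv.app U z
      map_add' := fun a b => map_add (φ.hom.app U).hom a b
      map_smul' := fun a b => φ.hom.app_smul a b
      left_inv := fun z => congr($(congrArg (fun k => Scheme.Modules.Hom.app k U) φ.hom_inv_id) z)
      right_inv := fun z => congr($(congrArg (fun k => Scheme.Modules.Hom.app k U) φ.inv_hom_id) z) }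
  exact exists_generator (LinearEquiv.ofBijective h hbij ≪≫ₗ e')

theorem nonempty_iso [Module.FaithfullyFlat A A'] (f : X ⟶ Spec (CommRingCat.of A)) [CompactSpace X]
    [QuasiSeparatedSpace X] (hsl : Finite (MaximalSpectrum Γ(X, ⊤))) (L : X.Modules) (hL : PicF.IsInvertible L)
    (htriv : Nonempty ((Scheme.Modules.pullback
        (pullback.fst f (Spec.map (CommRingCat.ofHom (algebraMap A A'))))).obj L ≅
      Coh.structureModule (pullback f (Spec.map (CommRingCat.ofHom (algebraMap A A')))))) :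
    Nonempty (L ≅ Coh.structureModule X) := by
  haveI : Coh.IsQCoh L := Groth.L21.Extend.isQCoh_of_isInvertible hL
  haveI : QuasiCompact f := (quasiCompact_iff_compactSpace f).2 inferInstance
  haveI : QuasiSeparated f := (quasiSeparated_iff_quasiSeparatedSpace f).2 inferInstance
  obtain ⟨φ⟩ := htriv
  obtain ⟨s, hs⟩ := exists_generator_sections f _ _ (IsPullback.of_hasPullback _ _) hsl L φ
  have hgg : Curv2.IsGloballyGenerated L := (FlatDescent.iff_baseChange f L inferInstance).2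
    (Groth.L18.Ample.isGloballyGenerated_of_iso φ.symm
      ⟨PUnit, Sigma.desc fun _ => 𝟙 _, epi_of_epi_fac (Sigma.ι_desc (fun _ : PUnit => 𝟙 (Coh.structureModule _)) PUnit.unit)⟩)
  haveI : Epi (Groth.L16.homOfSection L s) := Preadditive.epi_of_cancel_zero _ fun {G : X.Modules} (g : L ⟶ G) hg => by
    refine FlatDescent.eq_zero_of_kills hgg g fun t => ?_
    obtain ⟨r, rfl⟩ := hs t
    have h1 := congr($(congrArg (fun k => Scheme.Modules.Hom.app k ⊤) hg) (r : Γ(X, ⊤)))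
    refine Eq.trans ?_ h1
    show g.app ⊤ (r • s) = g.app ⊤ ((Groth.L16.homOfSection L s).app ⊤ r)
    rw [Groth.L16.homOfSection_app]
    exact congrArg (fun z => g.app ⊤ (r • z)) (rs_self L le_rfl s).symm
  haveI := Groth.L02.Canon.DescInvertible.isIso_of_epi_invertible (Groth.L16.homOfSection L s)
    (Groth.L18.Ample.isInvertible_structureModule X) hL
  exact ⟨(asIso (Groth.L16.homOfSection L s)).symm⟩

end Groth.L22.GG.SemilocalPic
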